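import Cfsg.Agent.Lib.Lie.Twisted.G2Cover.Chain

/-!
# Central extensions of groups with sixteen root directions: the data, and lifts of root subgroups
-/

set_option autoImplicit false

namespace CfsgLib.Lie.OctCover

open CfsgLib.Lie.G2Cover (cj mem_cj conj_mem_cj Rigid Ext)
open CfsgLib.Lie.G2Cover.Ext (IsLift Zero csub)
open scoped commutatorElement

universe u

variable {G : Type u} [Group G]

/-- the span of `n` consecutive directions from `i` -/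
def spanR (R : ZMod 16 → Subgroup G) : ℕ → ℕ → Subgroup G
  | _, 0 => ⊥
  | i, n + 1 => R (i : ZMod 16) ⊔ spanR R (i + 1) n

/-- pairings on `X` that are invariant under `H` and kill a subgroup `U` vanish -/
def RigidMod (H X U : Subgroup G) : Prop :=
  ∀ {A : Type u} [CommGroup A] (f : G → G → A),
    (∀ x ∈ X, ∀ x' ∈ X, ∀ y ∈ X, f (x * x') y = f x y * f x' y) →
    (∀ x ∈ X, ∀ y ∈ X, ∀ y' ∈ X, f x (y * y') = f x y * f x y') →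
    (∀ x ∈ X, ∀ v ∈ U, f x v = 1 ∧ f v x = 1) →
    (∀ h ∈ H, ∀ x ∈ X, ∀ y ∈ X, f (h * x * h⁻¹) (h * y * h⁻¹) = f x y) → ∀ x ∈ X, ∀ y ∈ X, f x y = 1

/-- a group with root subgroups in sixteen directions, `R k` at angle `22.5 k` -/
structure Sys (G : Type u) [Group G] where
  /-- the torus -/
  H : Subgroup G
  /-- the root subgroups -/
  R : ZMod 16 → Subgroup G
  /-- the centre of an odd root subgroup -/
  U1 : Subgroup G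
  na : G
  nb : G
  hH : ∀ a ∈ H, ∀ b ∈ H, a * b = b * a
  hR : ∀ h ∈ H, ∀ k, cj h (R k) = R k
  hU : ∀ h ∈ H, cj h U1 = U1
  naH : cj na H = H
  nbH : cj nb H = H
  naR : ∀ k, cj na (R k) = R (8 - k)
  nbR : ∀ k, cj nb (R k) = R (6 - k)
  naM : na ∈ R 0 ⊔ R 8
  nbM : nb ∈ R 7 ⊔ R 15
  sqa : na * na ∈ H
  sqb : ∃ h ∈ H, ⁅h, nb⁆ = nb * nb
  hbraid : ∃ h ∈ H, (na * nb * na * nb * na * nb * na) * nb * (na * nb * na * nb * na * nb * na)⁻¹ = h * nb * h⁻¹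
  fpfA : ∃ h ∈ H ⊓ (R 0 ⊔ R 8), ∀ s ∈ R 0, ⁅h, s⁆ = 1 → s = 1
  fpfB : ∃ h ∈ H ⊓ (R 7 ⊔ R 15), ∀ s ∈ R 7, ⁅h, s⁆ = 1 → s = 1
  fpf1 : ∃ h ∈ H, ∀ s ∈ R 1, ⁅h, s⁆ = 1 → s = 1
  multA : Cfsg.HasCyclicSchurMultiplier ↥(R 0 ⊔ R 8) 1
  multB : ∀ r : ℕ, r.Prime → r ∣ ((R 7).subgroupOf (R 7 ⊔ R 15)).index →
    ∃ C : Subgroup ↥(R 7 ⊔ R 15), IsCyclic C ∧ ¬ r ∣ C.index
  U_le : U1 ≤ R 1
  cU : ∀ x ∈ R 1, ∀ y ∈ R 1, ⁅x, y⁆ ∈ U1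
  cUz : ∀ x ∈ R 1, ∀ y ∈ U1, x * y = y * x
  genU : U1 ≤ Subgroup.closure {z | ∃ x ∈ R 0, ∃ y ∈ R 3, z = ⁅x, y⁆}
  cR0 : ∀ x ∈ R 0, ∀ y ∈ R 0, x * y = y * x
  r00 : Rigid H (R 0) (R 0)
  r11 : RigidMod H (R 1) U1
  rig : ∀ i j : ℕ, i < j → j < 8 → Rigid H (R (i : ZMod 16)) (R (j : ZMod 16))
  cR02 : ∀ x ∈ R 0, ∀ y ∈ R 2, x * y = y * x
  comm : ∀ i n : ℕ, i + n + 1 < 8 → ∀ x ∈ R (i : ZMod 16), ∀ y ∈ R ((i + n + 1 : ℕ) : ZMod 16),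
    ⁅x, y⁆ ∈ spanR R (i + 1) n
  disj : ∀ i n : ℕ, i + n < 8 → R (i : ZMod 16) ⊓ spanR R (i + 1) n = ⊥
  dH : H ⊓ spanR R 0 8 = ⊥
  hHgen : ∀ h ∈ H, ∃ a ∈ H ⊓ (R 0 ⊔ R 8), ∃ b ∈ H ⊓ (R 0 ⊔ R 8), h = a * (nb * b * nb⁻¹)
  hHmeet : ∀ h ∈ H ⊓ (R 0 ⊔ R 8), nb⁻¹ * h * nb ∈ R 0 ⊔ R 8 → ∀ y ∈ R 7 ⊔ R 15, h * y = y * h
  rankA : ∀ x ∈ R 8, x = 1 ∨ ∃ p ∈ R 0, ∃ h ∈ H, ∃ p' ∈ R 0, x = p * (h * na * h⁻¹) * p'
  rankB : ∀ x ∈ R 15, x = 1 ∨ ∃ p ∈ R 7, ∃ h ∈ H, ∃ p' ∈ R 7, x = p * (h * nb * h⁻¹) * p'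
  dist : ∀ j k, R j = R k → j = k
  hBN : ∀ n ∈ H ⊔ Subgroup.closure {na, nb}, n ∈ H ⊔ spanR R 0 8 → n ∈ H
  gen : R 0 ⊔ R 8 ⊔ (R 7 ⊔ R 15) = ⊤

theorem cj_one (U : Subgroup G) : cj 1 U = U := by
  ext x; simp [mem_cj]

theorem cj_cj (a b : G) (U : Subgroup G) : cj a (cj b U) = cj (a * b) U := by
  ext x
  simp only [mem_cj, mul_inv_rev, mul_assoc]

theorem cj_sup (a : G) (U V : Subgroup G) : cj a (U ⊔ V) = cj a U ⊔ cj a V :=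
  Subgroup.map_sup _ _ _

/-- fixed point free action gives bijective commutation -/
theorem comm_surj [Finite G] {R : Subgroup G} {h : G} (hR : cj h R = R) (hfix : ∀ s ∈ R, ⁅h, s⁆ = 1 → s = 1) :
    (∀ s ∈ R, ⁅h, s⁆ ∈ R) ∧ (∀ s ∈ R, ∀ t ∈ R, ⁅h, s⁆ = ⁅h, t⁆ → s = t) ∧ ∀ x ∈ R, ∃ s ∈ R, ⁅h, s⁆ = x := by
  have hin : ∀ s ∈ R, ⁅h, s⁆ ∈ R := fun s hs => by
    rw [commutatorElement_def]
    exact mul_mem (hR ▸ conj_mem_cj hs) (inv_mem hs)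
  have hinj : ∀ s ∈ R, ∀ t ∈ R, ⁅h, s⁆ = ⁅h, t⁆ → s = t := fun s hs t ht e => by
    simp only [commutatorElement_def] at e
    have e2 : ⁅h, t⁻¹ * s⁆ = 1 := by
      rw [commutatorElement_def]
      calc h * (t⁻¹ * s) * h⁻¹ * (t⁻¹ * s)⁻¹ = (h * t * h⁻¹)⁻¹ * (h * s * h⁻¹ * s⁻¹) * t := by group
        _ = (h * t * h⁻¹)⁻¹ * (h * t * h⁻¹ * t⁻¹) * t := by rw [e]
        _ = 1 := by group
    exact (inv_mul_eq_one.1 (hfix _ (mul_mem (inv_mem ht) hs) e2)).symm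
  refine ⟨hin, hinj, fun x hx => ?_⟩
  obtain ⟨⟨s, hs⟩, e⟩ := Finite.surjective_of_injective (f := fun s : R => (⟨⁅h, s.1⁆, hin _ s.2⟩ : R))
    (fun a b e => Subtype.ext (hinj _ a.2 _ b.2 (congrArg Subtype.val e))) ⟨x, hx⟩
  exact ⟨s, hs, congrArg Subtype.val e⟩

variable {E : Type u} [Group E] (X : Ext G E)

theorem csub_bot (H : Subgroup G) : X.csub H ⊥ = ⊥ := by
  rw [Ext.csub, Subgroup.closure_eq_bot_iff]
  rintro z ⟨x, -, y, hy, rfl⟩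
  rw [Subgroup.mem_bot.1 hy]
  exact X.cm_one_right x

theorem lift_bot : X.IsLift (⊥ : Subgroup E) ⊥ :=
  ⟨Subgroup.map_bot _, fun _ hz _ => Subgroup.mem_bot.1 hz⟩

theorem csub_mono (H : Subgroup G) {U R : Subgroup G} (h : U ≤ R) : X.csub H U ≤ X.csub H R :=
  Subgroup.closure_mono fun _ ⟨x, hx, y, hy, e⟩ => ⟨x, hx, y, h hy, e⟩

/-- the canonical lift of a root subgroup -/
theorem lift_root [Finite G] {H R U : Subgroup G} {h : G} (hh : h ∈ H) (hH : ∀ a ∈ H, ∀ b ∈ H, a * b = b * a)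
    (hR : ∀ g ∈ H, cj g R = R) (hU : ∀ g ∈ H, cj g U = U) (hUR : U ≤ R) (hTU : X.IsLift (X.csub H U) U)
    (hfix : ∀ s ∈ R, ⁅h, s⁆ = 1 → s = 1) (hcm : ∀ x ∈ R, ∀ y ∈ R, X.cm x y ∈ X.csub H U) (hz : X.Zero R U) :
    X.IsLift (X.csub H R) R := by
  obtain ⟨hin, hinj, hsur⟩ := comm_surj (hR h hh) hfix
  obtain ⟨-, -, hsurU⟩ := comm_surj (hU h hh) fun s hs => hfix s (hUR hs)
  obtain ⟨f, hf⟩ : ∃ f : G → E, f = fun s => X.cm h s := ⟨_, rfl⟩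
  have hπf : ∀ s, X.π (f s) = ⁅h, s⁆ := fun s => by rw [hf]; exact X.π_cm h s
  have hcomm : ∀ s ∈ R, ∀ q ∈ X.csub H U, f s * q = q * f s := fun s hs q hq =>
    hz.commute (by rw [hπf]; exact hin s hs) (hTU.π_mem hq)
  have hfm : ∀ s ∈ R, ∀ s' ∈ R, ∃ q ∈ X.csub H U, f (s * s') = f s * f s' * q := fun s hs s' hs' => by
    refine ⟨X.cm s ⁅h, s'⁆, hcm s hs _ (hin s' hs'), ?_⟩
    have e := X.comm_ext (a := X.lf s) (b := f s') (X.π_lf s) (hπf s')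
    rw [← hcomm s' hs' _ (hcm s hs _ (hin s' hs'))] at e
    simp only [hf] at e ⊢
    rw [X.cm_mul_right, e, mul_assoc]
  have hTle : X.csub H U ≤ X.csub H R := csub_mono X H hUR
  let M : Subgroup E :=
    { carrier := {z | ∃ s ∈ R, ∃ q ∈ X.csub H U, z = f s * q}
      one_mem' := ⟨1, one_mem _, 1, one_mem _, by rw [hf]; simp [X.cm_one_right]⟩
      mul_mem' := by
        rintro _ _ ⟨s, hs, q, hq, rfl⟩ ⟨s', hs', q', hq', rfl⟩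
        obtain ⟨q0, hq0, e⟩ := hfm s hs s' hs'
        refine ⟨s * s', mul_mem hs hs', q0⁻¹ * (q * q'), mul_mem (inv_mem hq0) (mul_mem hq hq'), ?_⟩
        calc f s * q * (f s' * q') = f s * (q * f s') * q' := by group
          _ = f s * (f s' * q) * q' := by rw [hcomm s' hs' q hq]
          _ = _ := by rw [e]; group
      inv_mem' := by
        rintro _ ⟨s, hs, q, hq, rfl⟩
        obtain ⟨q0, hq0, e⟩ := hfm s hs s⁻¹ (inv_mem hs)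
        rw [mul_inv_cancel, show f 1 = 1 by rw [hf]; exact X.cm_one_right h] at e
        refine ⟨s⁻¹, inv_mem hs, q⁻¹ * q0, mul_mem (inv_mem hq) hq0, ?_⟩
        have e' : (f s)⁻¹ = f s⁻¹ * q0 := inv_eq_of_mul_eq_one_right (by rw [← mul_assoc, ← e])
        calc (f s * q)⁻¹ = q⁻¹ * (f s⁻¹ * q0) := by rw [mul_inv_rev, e']
          _ = (q⁻¹ * f s⁻¹) * q0 := by group
          _ = (f s⁻¹ * q⁻¹) * q0 := by rw [hcomm _ (inv_mem hs) _ (inv_mem hq)]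
          _ = _ := by group }
  have hle : X.csub H R ≤ M := by
    rw [Ext.csub, Subgroup.closure_le]
    rintro _ ⟨g, hg, x, hx, rfl⟩
    obtain ⟨s, hs, rfl⟩ := hsur x hx
    have e : X.cm g ⁅h, s⁆ = f (g * s * g⁻¹) * (f s)⁻¹ := by
      rw [← X.cm_eq (a := X.lf g) (b := f s) (X.π_lf g) (hπf s), commutatorElement_def]
      simp only [hf]
      rw [X.cm_conj, X.π_lf, hH g hg h hh, mul_inv_cancel_right]
    rw [SetLike.mem_coe, e]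
    exact mul_mem ⟨_, hR g hg ▸ conj_mem_cj hs, 1, one_mem _, (mul_one _).symm⟩
      (inv_mem ⟨s, hs, 1, one_mem _, (mul_one _).symm⟩)
  refine ⟨le_antisymm ?_ fun x hx => ?_, fun z hz' e => ?_⟩
  · rw [Subgroup.map_le_iff_le_comap]
    intro z hz'
    obtain ⟨s, hs, q, hq, rfl⟩ := hle hz'
    rw [Subgroup.mem_comap, map_mul, hπf]
    exact mul_mem (hin s hs) (hUR (hTU.π_mem hq))
  · obtain ⟨s, hs, rfl⟩ := hsur x hx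
    exact ⟨X.cm h s, X.cm_mem_csub hh hs, X.π_cm h s⟩
  · obtain ⟨s, hs, q, hq, rfl⟩ := hle hz'
    have hu : ⁅h, s⁆ ∈ U := by
      rw [map_mul, hπf, mul_eq_one_iff_eq_inv] at e
      rw [e]; exact inv_mem (hTU.π_mem hq)
    obtain ⟨v, hv, ev⟩ := hsurU _ hu
    obtain rfl : v = s := hinj v (hUR hv) s hs ev
    exact hTU.inj _ (mul_mem (by rw [hf]; exact X.cm_mem_csub hh hv) hq) e

end CfsgLib.Lie.OctCover
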