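import Cfsg.Agent.Lib.Lie.Twisted.OctCover.Torus

/-!
# The covering is trivial
-/

set_option autoImplicit false

namespace CfsgLib.Lie.OctCover

open CfsgLib.Lie.G2Cover (cj mem_cj conj_mem_cj Rigid Ext NormBy)
open CfsgLib.Lie.G2Cover.Ext (IsLift Zero csub)
open scoped commutatorElement

universe u

variable {G : Type u} [Group G] {E : Type u} [Group E] (X : Ext G E) (S : Sys G) [Finite G]

/-- the lift of the Borel subgroup -/
noncomputable def BT : Subgroup E := HT X S ⊔ Q8 X S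

theorem Q8_le_BT : Q8 X S ≤ BT X S := le_sup_right

theorem TR_le_Q8 {k : ZMod 16} (hk : k.val < 8) : TR X S k ≤ Q8 X S := by
  have := TR_le_TQ X S 8 0 k.val (Nat.zero_le _) (by omega)
  rwa [ZMod.natCast_zmod_val] at this

theorem mem_BT {b : E} (hb : b ∈ BT X S) : ∃ h ∈ HT X S, ∃ q ∈ Q8 X S, b = h * q := by
  have hle : HT X S ≤ Subgroup.normalizer (Q8 X S : Set E) := fun h hh => Subgroup.mem_normalizer_iff.2 fun q =>
    ⟨fun hq => normBy_H_TQ X S 8 0 h (HT_le X S hh) q hq, fun hq => by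
      have := normBy_H_TQ X S 8 0 h⁻¹ (HT_le X S (inv_mem hh)) _ hq
      rwa [show h⁻¹ * (h * q * h⁻¹) * h⁻¹⁻¹ = q by group] at this⟩
  rw [← SetLike.mem_coe, BT, Subgroup.coe_mul_of_left_le_normalizer_right _ _ hle] at hb
  obtain ⟨h, hh, q, hq, rfl⟩ := hb
  exact ⟨h, hh, q, hq, rfl⟩

variable [Finite E]

theorem BT_inj {b : E} (hb : b ∈ BT X S) (e : X.π b = 1) : b = 1 := by
  obtain ⟨h, hh, q, hq, rfl⟩ := mem_BT X S hb
  rw [map_mul] at e
  have h1 := (lift_Q8 X S).π_mem hq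
  have h2 : X.π h ∈ S.H ⊓ spanR S.R 0 8 :=
    Subgroup.mem_inf.2 ⟨HT_le X S hh, by rw [eq_inv_of_mul_eq_one_left e]; exact inv_mem h1⟩
  rw [S.dH, Subgroup.mem_bot] at h2
  rw [h2, one_mul] at e
  rw [HT_inj X S hh h2, (lift_Q8 X S).inj q hq e, one_mul]

theorem cj_pow (i : ℕ) (k : ZMod 16) : cj ((la X S * lb X S) ^ i) (TR X S k) = TR X S (k + 2 * i) := by
  induction i generalizing k with
  | zero => ext x; simp [mem_cj]
  | succ i ih =>
    rw [pow_succ, ← cj_cj, ← cj_cj, cj_TR_nb X S (π_lb X S), cj_TR_na X S (π_la X S), ih]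
    congr 1
    push_cast
    ring

/-- how an element of the monomial group permutes the root subgroups -/
theorem N0_act {n : E} (hn : n ∈ N0 X S) :
    (∃ c : ZMod 16, (∀ k, cj n (TR X S k) = TR X S (k + c)) ∧ (c = 0 → n ∈ HT X S)) ∨
      ∃ c : ZMod 16, ∀ k, cj n (TR X S k) = TR X S (c - k) := by
  obtain ⟨t, ht, i, rfl | rfl⟩ := N0_form X S hn
  · refine Or.inl ⟨2 * i, fun k => ?_, fun hc => ?_⟩
    · rw [← cj_cj, cj_pow, cj_TR_H X S (HT_le X S ht)]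
    · have h16 : ((2 * i : ℕ) : ZMod 16) = 0 := by push_cast; exact hc
      obtain ⟨j, hj⟩ := (CharP.cast_eq_zero_iff (ZMod 16) 16 _).1 h16
      obtain rfl : i = 8 * j := by omega
      rw [pow_mul]
      exact mul_mem ht (pow_mem (pow_eight X S) j)
  · refine Or.inr ⟨8 + 2 * i, fun k => ?_⟩
    rw [← cj_cj, cj_TR_na X S (π_la X S), ← cj_cj, cj_pow, cj_TR_H X S (HT_le X S ht)]
    congr 1; ring

theorem cj_id_of_mem_H {n : E} (hn : X.π n ∈ S.H) (k : ZMod 16) {j : ZMod 16}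
    (h : cj n (TR X S k) = TR X S j) : k = j := by
  rw [cj_TR_H X S hn] at h
  refine S.dist _ _ ?_
  rw [← (lift_R X S k).map, h, (lift_R X S j).map]

theorem N0_H {n : E} (hn : n ∈ N0 X S) (hπ : X.π n ∈ S.H) : n ∈ HT X S := by
  rcases N0_act X S hn with ⟨c, hS, h0⟩ | ⟨c, hS⟩
  · exact h0 (by simpa using (cj_id_of_mem_H X S hπ 0 (hS 0)).symm)
  · exfalso
    have e0 := cj_id_of_mem_H X S hπ 0 (hS 0)
    have e1 := cj_id_of_mem_H X S hπ 2 (hS 2)
    rw [sub_zero] at e0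
    rw [← e0] at e1
    exact absurd e1 (by decide)

theorem pos_dich : ∀ k : ZMod 16, k.val < 8 ∨ (k + 8).val < 8 := by decide

theorem dich {n : E} (hn : n ∈ N0 X S) (j : ZMod 16) :
    cj n (TR X S j) ≤ Q8 X S ∨ cj n (TR X S (j + 8)) ≤ Q8 X S := by
  rcases N0_act X S hn with ⟨c, hS, -⟩ | ⟨c, hS⟩ <;> simp only [hS]
  · refine (pos_dich (j + c)).imp (TR_le_Q8 X S) fun h => ?_
    rw [add_right_comm]; exact TR_le_Q8 X S h
  · refine (pos_dich (c - j)).imp (TR_le_Q8 X S) fun h => ?_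
    rw [show c - (j + 8) = c - j + 8 by rw [sub_add_eq_sub_sub, sub_eq_add_neg (c - j)]; congr 1]
    exact TR_le_Q8 X S h

/-- `BT N0 BT` -/
def Big : Set E := {x | ∃ b ∈ BT X S, ∃ n ∈ N0 X S, ∃ b' ∈ BT X S, x = b * n * b'}

theorem mul_BT_Big {b x : E} (hb : b ∈ BT X S) (hx : x ∈ Big X S) : b * x ∈ Big X S := by
  obtain ⟨c, hc, n, hn, c', hc', rfl⟩ := hx
  exact ⟨b * c, mul_mem hb hc, n, hn, c', hc', by group⟩

/-- left multiplication by a reflection -/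
theorem step {s : E} (hs : s ∈ N0 X S) {U V Q : Subgroup E} (hU : U ≤ Q8 X S) (hQ : Q ≤ Q8 X S)
    (hsU : cj s U = V) (hsV : cj s V = U) (hsQ : cj s Q ≤ Q)
    (hdec : ∀ q ∈ Q8 X S, ∃ a ∈ Q, ∃ p ∈ U, q = a * p)
    (hrank : ∀ v ∈ V, v = 1 ∨ ∃ u ∈ U, ∃ t ∈ HT X S, ∃ u' ∈ U, v = u * (t * s) * u')
    (hd : ∀ n ∈ N0 X S, cj n U ≤ Q8 X S ∨ cj n V ≤ Q8 X S)
    {x : E} (hx : x ∈ Big X S) : s * x ∈ Big X S := by
  obtain ⟨b, hb, n, hn, b', hb', rfl⟩ := hx
  obtain ⟨h, hh, q, hq, rfl⟩ := mem_BT X S hb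
  obtain ⟨a, ha, p, hp, rfl⟩ := hdec q hq
  have e : s * (h * (a * p) * n * b') = (s * h * s⁻¹) * (s * a * s⁻¹) * (s * p * n * b') := by group
  rw [e]
  refine mul_BT_Big X S (mul_mem (Subgroup.mem_sup_left (N0_normal X S hs hh))
    (Q8_le_BT X S (hQ (hsQ (conj_mem_cj ha))))) ?_
  rcases hd n⁻¹ (inv_mem hn) with h1 | h1
  · refine ⟨1, one_mem _, s * n, mul_mem hs hn, n⁻¹ * p * n⁻¹⁻¹ * b',
      mul_mem (Q8_le_BT X S (h1 (conj_mem_cj hp))) hb', by group⟩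
  · have hv : s * p * s⁻¹ ∈ V := hsU ▸ conj_mem_cj hp
    rcases hrank _ hv with hv1 | ⟨u, hu, t, ht, u', hu', hv1⟩
    · refine ⟨1, one_mem _, s * n, mul_mem hs hn, b', hb', ?_⟩
      rw [show p = 1 by rw [mul_inv_eq_one, mul_eq_left] at hv1; exact hv1]
      group
    · have hu2 : (s * n)⁻¹ * u' * (s * n) ∈ Q8 X S := by
        have : s⁻¹ * u' * s ∈ V := mem_cj.1 (hsV.symm ▸ hu')
        have h2 := h1 (conj_mem_cj this)
        rwa [show n⁻¹ * (s⁻¹ * u' * s) * n⁻¹⁻¹ = (s * n)⁻¹ * u' * (s * n) by group] at h2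
      refine ⟨u, Q8_le_BT X S (hU hu), t * s * (s * n), mul_mem (mul_mem (HT_le_N0 X S ht) hs) (mul_mem hs hn),
        _, mul_mem (Q8_le_BT X S hu2) hb', ?_⟩
      calc s * p * n * b' = (s * p * s⁻¹) * s * n * b' := by group
        _ = _ := by rw [hv1]; group

theorem rankA : ∀ v ∈ TR X S 8, v = 1 ∨
    ∃ u ∈ TR X S 0, ∃ t ∈ HT X S, ∃ u' ∈ TR X S 0, v = u * (t * la X S) * u' := by
  intro v hv
  rcases S.rankA _ ((lift_R X S 8).π_mem hv) with h | ⟨p, hp, g, hg, p', hp', e⟩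
  · exact Or.inl ((lift_R X S 8).inj v hv h)
  obtain ⟨u, hu, rfl⟩ := (lift_R X S 0).exists_mem hp
  obtain ⟨u', hu', rfl⟩ := (lift_R X S 0).exists_mem hp'
  obtain ⟨t, ht, rfl⟩ := HT_surj X S hg
  refine Or.inr ⟨u, hu, t * (la X S * t⁻¹ * (la X S)⁻¹), mul_mem ht (la_HT X S (inv_mem ht)), u', hu', ?_⟩
  rw [show t * (la X S * t⁻¹ * (la X S)⁻¹) * la X S = t * la X S * t⁻¹ by group]
  exact Ea_eq X S (Subgroup.mem_sup_right (show v ∈ TR X S (0 + 8) by rwa [zero_add]))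
    (mul_mem (mul_mem (Subgroup.mem_sup_left hu) (normBy_H_Ea X S t hg _ (la_mem X S))) (Subgroup.mem_sup_left hu'))
    (by simp [π_la, e])

theorem rankB : ∀ v ∈ TR X S 15, v = 1 ∨
    ∃ u ∈ TR X S 7, ∃ t ∈ HT X S, ∃ u' ∈ TR X S 7, v = u * (t * lb X S) * u' := by
  intro v hv
  rcases S.rankB _ ((lift_R X S 15).π_mem hv) with h | ⟨p, hp, g, hg, p', hp', e⟩
  · exact Or.inl ((lift_R X S 15).inj v hv h)
  obtain ⟨u, hu, rfl⟩ := (lift_R X S 7).exists_mem hp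
  obtain ⟨u', hu', rfl⟩ := (lift_R X S 7).exists_mem hp'
  obtain ⟨t, ht, rfl⟩ := HT_surj X S hg
  refine Or.inr ⟨u, hu, t * (lb X S * t⁻¹ * (lb X S)⁻¹), mul_mem ht (lb_HT X S (inv_mem ht)), u', hu', ?_⟩
  rw [show t * (lb X S * t⁻¹ * (lb X S)⁻¹) * lb X S = t * lb X S * t⁻¹ by group]
  exact Eb_eq X S
    (Subgroup.mem_sup_right (show v ∈ TR X S (7 + 8) by rwa [show (7 : ZMod 16) + 8 = 15 by decide]))
    (mul_mem (mul_mem (Subgroup.mem_sup_left hu) (normBy_H_Eb X S t hg _ (lb_mem X S))) (Subgroup.mem_sup_left hu'))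
    (by simp [π_lb, e])

theorem hsQa : cj (la X S) (TQ X S 1 7) ≤ TQ X S 1 7 := by
  rw [cj, Subgroup.map_le_iff_le_comap]
  refine TQ_le X S 7 1 fun k h1 h2 t ht => ?_
  have h := conj_mem_cj (g := la X S) ht
  rw [cj_TR_na X S (π_la X S)] at h
  have e : (8 : ZMod 16) - k = ((8 - k : ℕ) : ZMod 16) := by rw [Nat.cast_sub (by omega)]; rfl
  rw [e] at h
  exact TR_le_TQ X S 7 1 (8 - k) (by omega) (by omega) h

theorem hsQb : cj (lb X S) (TQ X S 0 7) ≤ TQ X S 0 7 := by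
  rw [cj, Subgroup.map_le_iff_le_comap]
  refine TQ_le X S 7 0 fun k h1 h2 t ht => ?_
  have h := conj_mem_cj (g := lb X S) ht
  rw [cj_TR_nb X S (π_lb X S)] at h
  have e : (6 : ZMod 16) - k = ((6 - k : ℕ) : ZMod 16) := by rw [Nat.cast_sub (by omega)]; rfl
  rw [e] at h
  exact TR_le_TQ X S 7 0 (6 - k) (by omega) (by omega) h

omit [Finite G] [Finite E] in
theorem dec_of {U : Subgroup G} {T Q : Subgroup E} (hT : X.IsLift T U) (hn : NormBy X U Q) {q : E} (hq : q ∈ T ⊔ Q) :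
    ∃ a ∈ Q, ∃ p ∈ T, q = a * p := by
  have hle : T ≤ Subgroup.normalizer (Q : Set E) := fun t ht => Subgroup.mem_normalizer_iff.2 fun a =>
    ⟨fun ha => hn t (hT.π_mem ht) a ha, fun ha => by
      have := hn t⁻¹ (hT.π_mem (inv_mem ht)) _ ha
      rwa [show t⁻¹ * (t * a * t⁻¹) * t⁻¹⁻¹ = a by group] at this⟩
  rw [← SetLike.mem_coe, Subgroup.coe_mul_of_left_le_normalizer_right _ _ hle] at hq
  obtain ⟨p, hp, a, ha, rfl⟩ := hq
  exact ⟨p * a * p⁻¹, hn p (hT.π_mem hp) a ha, p, hp, by group⟩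

theorem decA : ∀ q ∈ Q8 X S, ∃ a ∈ TQ X S 1 7, ∃ p ∈ TR X S 0, q = a * p := by
  intro q hq
  refine dec_of X (lift_R X S 0) (normBy_R0 X S) ?_
  rw [Q8, TQ] at hq
  simpa using hq

theorem decB : ∀ q ∈ Q8 X S, ∃ a ∈ TQ X S 0 7, ∃ p ∈ TR X S 7, q = a * p := by
  intro q hq
  refine dec_of X (lift_R X S 7) (normBy_R7 X S) ((?_ : Q8 X S ≤ TR X S 7 ⊔ TQ X S 0 7) hq)
  refine TQ_le X S 8 0 fun k h1 h2 => ?_
  by_cases hk : k = 7
  · subst hk; exact le_sup_of_le_left (by rw [Nat.cast_ofNat])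
  · exact le_sup_of_le_right (TR_le_TQ X S 7 0 k h1 (by omega))

theorem gens_top : BT X S ⊔ Subgroup.closure {la X S, lb X S} = ⊤ := by
  obtain ⟨W, hW⟩ : ∃ W, W = BT X S ⊔ Subgroup.closure {la X S, lb X S} := ⟨_, rfl⟩
  rw [← hW]
  have hla : la X S ∈ W := hW ▸ Subgroup.mem_sup_right (Subgroup.subset_closure (Set.mem_insert _ _))
  have hlb : lb X S ∈ W :=
    hW ▸ Subgroup.mem_sup_right (Subgroup.subset_closure (Set.mem_insert_of_mem _ rfl))
  have h0 : TR X S 0 ≤ W :=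
    hW ▸ ((TR_le_Q8 X S (by decide)).trans (Q8_le_BT X S)).trans le_sup_left
  have h7 : TR X S 7 ≤ W :=
    hW ▸ ((TR_le_Q8 X S (by decide)).trans (Q8_le_BT X S)).trans le_sup_left
  have hcj : ∀ {a : E} {T : Subgroup E}, a ∈ W → T ≤ W → cj a T ≤ W := fun ha hT x hx => by
    have := mul_mem (mul_mem ha (hT (mem_cj.1 hx))) (inv_mem ha)
    simpa [mul_assoc] using this
  have h8 : TR X S 8 ≤ W := by
    have := hcj hla h0
    rwa [cj_TR_na X S (π_la X S), sub_zero] at this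
  have h15 : TR X S 15 ≤ W := by
    have := hcj hlb h7
    rwa [cj_TR_nb X S (π_lb X S), show (6 : ZMod 16) - 7 = 15 by decide] at this
  have hmap : W.map X.π = ⊤ := top_unique (by
    rw [← S.gen, ← (lift_R X S 0).map, ← (lift_R X S 8).map, ← (lift_R X S 7).map, ← (lift_R X S 15).map]
    exact sup_le (sup_le (Subgroup.map_mono h0) (Subgroup.map_mono h8))
      (sup_le (Subgroup.map_mono h7) (Subgroup.map_mono h15)))
  have key : ∀ x : E, ∃ w ∈ W, ∀ y : E, x * y * x⁻¹ = w * y * w⁻¹ := fun x => by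
    have : X.π x ∈ W.map X.π := hmap ▸ Subgroup.mem_top _
    obtain ⟨w, hw, e⟩ := this
    exact ⟨w, hw, fun y => X.conj_congr e.symm y⟩
  have hcomm : commutator E ≤ W := by
    rw [commutator_def, Subgroup.commutator_le]
    intro x _ y _
    obtain ⟨w, hw, e⟩ := key x
    obtain ⟨v, hv, e'⟩ := key y
    rw [show ⁅x, y⁆ = ⁅w, v⁆ from by
      rw [commutatorElement_def, commutatorElement_def, e y, show w * y * w⁻¹ * y⁻¹ = w * (y * w⁻¹ * y⁻¹) by group,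
        e' w⁻¹]
      group]
    exact mul_mem (mul_mem (mul_mem hw hv) (inv_mem hw)) (inv_mem hv)
  refine top_unique fun x _ => ?_
  obtain ⟨w, hw, e⟩ : X.π x ∈ W.map X.π := hmap ▸ Subgroup.mem_top _
  have hz : x * w⁻¹ ∈ commutator E := X.der (by rw [MonoidHom.mem_ker, map_mul, map_inv, e, mul_inv_cancel])
  simpa using mul_mem (hcomm hz) hw

theorem Big_univ (x : E) : x ∈ Big X S := by
  have hA : ∀ {y : E}, y ∈ Big X S → la X S * y ∈ Big X S := fun hy =>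
    step X S (la_mem_N0 X S) (U := TR X S 0) (V := TR X S 8) (Q := TQ X S 1 7)
      (TR_le_Q8 X S (by decide)) (TQ_mono X S (Nat.zero_le _) (by norm_num))
      (by rw [cj_TR_na X S (π_la X S), sub_zero]) (by rw [cj_TR_na X S (π_la X S), sub_self]) (hsQa X S)
      (decA X S) (rankA X S) (fun n hn => by simpa using dich X S hn 0) hy
  have hB : ∀ {y : E}, y ∈ Big X S → lb X S * y ∈ Big X S := fun hy =>
    step X S (lb_mem_N0 X S) (U := TR X S 7) (V := TR X S 15) (Q := TQ X S 0 7)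
      (TR_le_Q8 X S (by decide)) (TQ_mono X S le_rfl (by norm_num))
      (by rw [cj_TR_nb X S (π_lb X S)]; congr 1) (by rw [cj_TR_nb X S (π_lb X S)]; congr 1) (hsQb X S)
      (decB X S) (rankB X S) (fun n hn => by
        have := dich X S hn 7
        rwa [show (7 : ZMod 16) + 8 = 15 by decide] at this) hy
  have hx : x ∈ Subgroup.closure ((BT X S : Set E) ∪ {la X S, lb X S}) := by
    rw [Subgroup.closure_union, Subgroup.closure_eq, gens_top]; exact Subgroup.mem_top _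
  induction hx using Subgroup.closure_induction_left with
  | one => exact ⟨1, one_mem _, 1, one_mem _, 1, one_mem _, by group⟩
  | mul_left y hy z _ ih =>
    rcases hy with hy | rfl | rfl
    · exact mul_BT_Big X S hy ih
    · exact hA ih
    · exact hB ih
  | inv_mul_cancel y hy z _ ih =>
    rcases hy with hy | rfl | rfl
    · exact mul_BT_Big X S (inv_mem hy) ih
    · rw [show (la X S)⁻¹ * z = (la X S * la X S)⁻¹ * (la X S * z) by group]
      exact mul_BT_Big X S (Subgroup.mem_sup_left (inv_mem (la_sq X S))) (hA ih)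
    · rw [show (lb X S)⁻¹ * z = (lb X S * lb X S)⁻¹ * (lb X S * z) by group]
      exact mul_BT_Big X S (Subgroup.mem_sup_left (inv_mem (lb_sq X S))) (hB ih)

include S in
theorem ker_eq_bot : X.π.ker = ⊥ := by
  rw [Subgroup.eq_bot_iff_forall]
  intro z hz
  obtain ⟨b, hb, n, hn, b', hb', rfl⟩ := Big_univ X S z
  have e : X.π b * X.π n * X.π b' = 1 := by
    rw [← map_mul, ← map_mul]; exact MonoidHom.mem_ker.1 hz
  have hπB : (BT X S).map X.π ≤ S.H ⊔ spanR S.R 0 8 := by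
    rw [BT, Subgroup.map_sup, (lift_Q8 X S).map]
    exact sup_le_sup_right (Subgroup.map_le_iff_le_comap.2 (HT_le X S)) _
  have hn1 : X.π n ∈ S.H ⊔ Subgroup.closure {S.na, S.nb} := by
    have : (N0 X S).map X.π ≤ S.H ⊔ Subgroup.closure {S.na, S.nb} := by
      rw [N0, Subgroup.map_sup, MonoidHom.map_closure, Set.image_pair, π_la, π_lb]
      exact sup_le_sup_right (Subgroup.map_le_iff_le_comap.2 (HT_le X S)) _
    exact this (Subgroup.mem_map_of_mem _ hn)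
  have hH : X.π n ∈ S.H := S.hBN _ hn1 (by
    rw [show X.π n = (X.π b)⁻¹ * (X.π b')⁻¹ by
      rw [← mul_inv_rev, eq_inv_iff_mul_eq_one, show X.π n * (X.π b' * X.π b) =
        (X.π b)⁻¹ * (X.π b * X.π n * X.π b') * X.π b by group, e]
      group]
    exact mul_mem (hπB (Subgroup.mem_map_of_mem _ (inv_mem hb)) |> fun h => by rwa [map_inv] at h)
      (inv_mem (hπB (Subgroup.mem_map_of_mem _ hb'))))
  exact BT_inj X S (mul_mem (mul_mem hb (Subgroup.mem_sup_left (N0_H X S hn hH))) hb') (MonoidHom.mem_ker.1 hz)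

omit [Finite E] in
theorem schur_trivial (S : Sys G) : Cfsg.HasCyclicSchurMultiplier G 1 :=
  CfsgLib.Schur.hasCyclicSchurMultiplier_one_of_forall fun _ _ _ σ hσ =>
    ker_eq_bot ⟨σ, hσ.1, hσ.2.1, hσ.2.2⟩ S

end CfsgLib.Lie.OctCover
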