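import Cfsg.Agent.Lib.Lie.Twisted.OctCover.Roots

/-!
# The lift of the positive unipotent subgroup
-/

set_option autoImplicit false

namespace CfsgLib.Lie.OctCover

open CfsgLib.Lie.G2Cover (cj mem_cj conj_mem_cj Rigid Ext NormBy cm_mem_of_rigid)
open CfsgLib.Lie.G2Cover.Ext (IsLift Zero csub)
open scoped commutatorElement

universe u

variable {G : Type u} [Group G] {E : Type u} [Group E] (X : Ext G E) (S : Sys G)

/-- lifts of consecutive directions -/
noncomputable def TQ : ℕ → ℕ → Subgroup E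
  | _, 0 => ⊥
  | i, n + 1 => TR X S (i : ZMod 16) ⊔ TQ (i + 1) n

theorem TR_le_TQ : ∀ (n i k : ℕ), i ≤ k → k < i + n → TR X S (k : ZMod 16) ≤ TQ X S i n := by
  intro n
  induction n with
  | zero => intro i k h1 h2; omega
  | succ n ih =>
    intro i k h1 h2
    rcases eq_or_lt_of_le h1 with rfl | h
    · exact le_sup_left
    · exact le_sup_of_le_right (ih (i + 1) k h (by omega))

theorem TQ_le : ∀ (n i : ℕ) {Q : Subgroup E}, (∀ k, i ≤ k → k < i + n → TR X S (k : ZMod 16) ≤ Q) →
    TQ X S i n ≤ Q := by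
  intro n
  induction n with
  | zero => intro i Q _; exact bot_le
  | succ n ih =>
    intro i Q h
    exact sup_le (h i le_rfl (by omega)) (ih (i + 1) fun k h1 h2 => h k (by omega) (by omega))

theorem TQ_mono {i n i' n' : ℕ} (h1 : i' ≤ i) (h2 : i + n ≤ i' + n') : TQ X S i n ≤ TQ X S i' n' :=
  TQ_le X S n i fun k hk hk' => TR_le_TQ X S n' i' k (by omega) (by omega)

theorem normBy_H_TQ (n i : ℕ) : NormBy X S.H (TQ X S i n) := fun a ha q hq => by
  have hle : TQ X S i n ≤ (TQ X S i n).comap (MulAut.conj a).toMonoidHom :=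
    TQ_le X S n i fun k h1 h2 t ht => TR_le_TQ X S n i k h1 h2 (normBy_H_TR X S _ a ha t ht)
  exact hle hq

/-- commutators of lifts of two root subgroups lie between them -/
def Between (n : ℕ) : Prop :=
  ∀ i, i + n + 1 < 8 → ∀ x ∈ S.R (i : ZMod 16), ∀ y ∈ S.R ((i + n + 1 : ℕ) : ZMod 16), X.cm x y ∈ TQ X S (i + 1) n

variable [Finite G]

theorem norm_left {i m : ℕ} (h : ∀ n < m, Between X S n) (hi : i + m < 8) :
    NormBy X (S.R (i : ZMod 16)) (TQ X S (i + 1) m) := fun a ha q hq => by
  have hle : TQ X S (i + 1) m ≤ (TQ X S (i + 1) m).comap (MulAut.conj a).toMonoidHom := by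
    refine TQ_le X S m (i + 1) fun k h1 h2 t ht => ?_
    refine NormBy.of_cm (lift_R X S (k : ZMod 16)) (TR_le_TQ X S m (i + 1) k h1 h2) (fun x hx y hy => ?_) ha ht
    obtain ⟨d, rfl⟩ : ∃ d, k = i + d + 1 := ⟨k - i - 1, by omega⟩
    exact TQ_mono X S le_rfl (by omega) (h d (by omega) i (by omega) x hx y hy)
  exact hle hq

theorem norm_right {i m : ℕ} (h : ∀ n < m, Between X S n) (hi : i + m < 8) :
    NormBy X (S.R ((i + m : ℕ) : ZMod 16)) (TQ X S i m) := fun a ha q hq => by
  have hle : TQ X S i m ≤ (TQ X S i m).comap (MulAut.conj a).toMonoidHom := by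
    refine TQ_le X S m i fun k h1 h2 t ht => ?_
    refine NormBy.of_cm (lift_R X S (k : ZMod 16)) (TR_le_TQ X S m i k h1 h2) (fun x hx y hy => ?_) ha ht
    obtain ⟨d, hd⟩ : ∃ d, i + m = k + d + 1 := ⟨i + m - k - 1, by omega⟩
    rw [hd] at hx
    rw [← X.cm_inv]
    exact inv_mem (TQ_mono X S (by omega) (by omega) (h d (by omega) k (by omega) y hy x hx))
  exact hle hq

theorem lift_TQ : ∀ (m i : ℕ), (∀ n, n + 1 < m → Between X S n) → i + m ≤ 8 →
    X.IsLift (TQ X S i m) (spanR S.R i m) := by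
  intro m
  induction m with
  | zero => intro i _ _; exact lift_bot X
  | succ m ih =>
    intro i h hi
    exact CfsgLib.Lie.G2Cover.IsLift.join (lift_R X S _) (ih (i + 1) (fun n hn => h n (by omega)) (by omega))
      (norm_left X S (fun n hn => h n (by omega)) (by omega)) (S.disj i m (by omega))

theorem between : ∀ n, Between X S n := by
  intro n
  induction n using Nat.strong_induction_on with
  | _ n ih =>
    intro i hi
    refine cm_mem_of_rigid (lift_TQ X S n (i + 1) (fun k hk => ih k (by omega)) (by omega))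
      (H := S.H) (U := S.R (i : ZMod 16)) (V := S.R ((i + n + 1 : ℕ) : ZMod 16))
      (S.rig i (i + n + 1) (by omega) hi) (fun _ hh => S.hR _ hh _) (fun _ hh => S.hR _ hh _)
      (norm_left X S ih (by omega)) ?_ (normBy_H_TQ X S n (i + 1)) (S.comm i n hi)
    have := norm_right X S (i := i + 1) ih (by omega)
    rwa [show i + 1 + n = i + n + 1 by omega] at this

/-- the lift of the positive unipotent subgroup -/
noncomputable def Q8 : Subgroup E := TQ X S 0 8

theorem lift_Q8 : X.IsLift (Q8 X S) (spanR S.R 0 8) :=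
  lift_TQ X S 8 0 (fun n _ => between X S n) le_rfl

theorem normBy_R0 : NormBy X (S.R 0) (TQ X S 1 7) :=
  norm_left X S (i := 0) (fun n _ => between X S n) (by norm_num)

theorem normBy_R7 : NormBy X (S.R 7) (TQ X S 0 7) :=
  norm_right X S (i := 0) (m := 7) (fun n _ => between X S n) (by norm_num)

end CfsgLib.Lie.OctCover
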