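import Cfsg.Agent.Lib.Lie.Twisted.OctCover.Chain

/-!
# The two subgroups of rank one lift
-/

set_option autoImplicit false

namespace CfsgLib.Lie.OctCover

open CfsgLib.Lie.G2Cover (cj mem_cj conj_mem_cj Rigid Ext NormBy)
open CfsgLib.Lie.G2Cover.Ext (IsLift Zero csub)
open scoped commutatorElement

universe u

variable {G : Type u} [Group G] {E : Type u} [Group E] (X : Ext G E) (S : Sys G)

/-- the lift of the subgroup of rank one of a direction -/
noncomputable def EP (j : ZMod 16) : Subgroup E := TR X S j ⊔ TR X S (j + 8)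

theorem normBy_H_EP (j : ZMod 16) : NormBy X S.H (EP X S j) :=
  CfsgLib.Lie.G2Cover.NormBy.sup_of (normBy_H_TR X S j) (normBy_H_TR X S (j + 8))

variable [Finite G]

theorem map_EP (j : ZMod 16) : (EP X S j).map X.π = S.R j ⊔ S.R (j + 8) := by
  rw [EP, Subgroup.map_sup, (lift_R X S j).map, (lift_R X S (j + 8)).map]

/-- the lift of a subgroup of rank one is perfect -/
theorem EP_le_comm (j : ZMod 16) {n : G} (hn : n ∈ S.R j ⊔ S.R (j + 8))
    (hnH : cj n S.H = S.H) (h1 : cj n (S.R j) = S.R (j + 8)) (h2 : cj n (S.R (j + 8)) = S.R j)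
    {h : G} (hh : h ∈ S.H ⊓ (S.R j ⊔ S.R (j + 8))) (hfix : ∀ s ∈ S.R j, ⁅h, s⁆ = 1 → s = 1) :
    EP X S j ≤ ⁅EP X S j, EP X S j⁆ := by
  obtain ⟨-, -, hsur⟩ := comm_surj (S.hR h (Subgroup.mem_inf.1 hh).1 j) hfix
  obtain ⟨a, ha, ea⟩ : ∃ a ∈ EP X S j, X.π a = h := by
    have := (Subgroup.mem_inf.1 hh).2
    rw [← map_EP X S] at this
    exact this
  have h0 : TR X S j ≤ ⁅EP X S j, EP X S j⁆ := by
    intro t ht
    obtain ⟨s, hs, e⟩ := hsur _ ((lift_R X S j).π_mem ht)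
    obtain ⟨b, hb, eb⟩ := (lift_R X S j).exists_mem hs
    have : t = ⁅a, b⁆ := (lift_R X S j).eq ht
      (by rw [X.cm_eq ea eb, TR]; exact X.cm_mem_csub (Subgroup.mem_inf.1 hh).1 hs)
      (by rw [map_commutatorElement, ea, eb, e])
    rw [this]
    exact Subgroup.commutator_mem_commutator ha (Subgroup.mem_sup_left hb)
  obtain ⟨l, hl, el⟩ : ∃ l ∈ EP X S j, X.π l = n := by
    have := hn
    rw [← map_EP X S] at this
    exact this
  have c1 : cj l (TR X S j) = TR X S (j + 8) := by rw [TR, TR, X.csub_conj, el, hnH, h1]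
  have c2 : cj l (TR X S (j + 8)) = TR X S j := by rw [TR, TR, X.csub_conj, el, hnH, h2]
  have hE : cj l (EP X S j) = EP X S j := by rw [EP, cj_sup, c1, c2, sup_comm]
  refine sup_le h0 ?_
  calc TR X S (j + 8) = cj l (TR X S j) := c1.symm
    _ ≤ cj l ⁅EP X S j, EP X S j⁆ := Subgroup.map_mono h0
    _ = ⁅EP X S j, EP X S j⁆ := by
      rw [cj, Subgroup.map_commutator]
      exact congrArg₂ (fun a b : Subgroup E => ⁅a, b⁆) hE hE

/-- the lift of the short root `SL₂` -/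
noncomputable def Ea : Subgroup E := EP X S 0

/-- the lift of the long rank one subgroup -/
noncomputable def Eb : Subgroup E := EP X S 7

theorem map_Ea : (Ea X S).map X.π = S.R 0 ⊔ S.R 8 := by rw [Ea, map_EP]; congr 2

theorem map_Eb : (Eb X S).map X.π = S.R 7 ⊔ S.R 15 := by rw [Eb, map_EP]; congr 2

theorem Ea_inj [Finite E] {z : E} (hz : z ∈ Ea X S) (e : X.π z = 1) : z = 1 := by
  have hle : Ea X S ≤ (S.R 0 ⊔ S.R 8).comap X.π := by
    rw [← map_Ea X S]; exact Subgroup.le_comap_map _ _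
  obtain ⟨h, hh, hfix⟩ := S.fpfA
  have hp := EP_le_comm X S 0 (n := S.na) (by simpa using S.naM) S.naH (by rw [S.naR]; congr 1)
    (by rw [S.naR]; congr 1) (h := h) (by simpa using hh) hfix
  have h2 : z ∈ ⁅(S.R 0 ⊔ S.R 8).comap X.π, (S.R 0 ⊔ S.R 8).comap X.π⁆ :=
    Subgroup.commutator_mono hle hle (hp hz)
  rw [← Subgroup.map_subtype_commutator] at h2
  obtain ⟨⟨w, hw⟩, hwc, rfl⟩ := h2
  exact CfsgLib.Known.SL2Mult.trivial_of_mult X.π ⟨X.surj, X.central, X.der⟩ _ S.multA w hw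
    (MonoidHom.mem_ker.2 e) hwc

theorem Eb_inj [Finite E] {z : E} (hz : z ∈ Eb X S) (e : X.π z = 1) : z = 1 := by
  obtain ⟨h, hh, hfix⟩ := S.fpfB
  have h15 : (7 : ZMod 16) + 8 = 15 := by decide
  have hp : Eb X S ≤ ⁅Eb X S, Eb X S⁆ := EP_le_comm X S 7 (n := S.nb)
    (show S.nb ∈ S.R 7 ⊔ S.R (7 + 8) by rw [h15]; exact S.nbM) S.nbH
    (by rw [S.nbR, show (6 : ZMod 16) - 7 = 7 + 8 by decide])
    (by rw [S.nbR, show (6 : ZMod 16) - (7 + 8) = 7 by decide]) (h := h) (by rw [h15]; exact hh) hfix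
  obtain ⟨M, hM⟩ : ∃ M, M = S.R 7 ⊔ S.R 15 := ⟨_, rfl⟩
  have hmem : ∀ x : Eb X S, X.π x ∈ M := fun x => hM ▸ map_Eb X S ▸ Subgroup.mem_map_of_mem _ x.2
  let ξ : Eb X S →* M := (X.π.comp (Eb X S).subtype).codRestrict M hmem
  have hs : Function.Surjective ξ := fun ⟨y, hy⟩ => by
    rw [hM, ← map_Eb X S] at hy
    obtain ⟨x, hx, rfl⟩ := hy
    exact ⟨⟨x, hx⟩, rfl⟩
  have hker : ∀ x : Eb X S, x ∈ ξ.ker → X.π (x : E) = 1 := fun x hx =>
    congrArg Subtype.val (MonoidHom.mem_ker.1 hx)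
  have hperf : commutator (Eb X S) = ⊤ := Subgroup.map_injective (Eb X S).subtype_injective (by
    rw [Subgroup.map_subtype_commutator, ← MonoidHom.range_eq_map, Subgroup.range_subtype]
    exact le_antisymm (Subgroup.commutator_le_self _) hp)
  have hstem : Cfsg.IsStemExtension ξ := ⟨hs, fun x hx => Subgroup.mem_center_iff.2 fun y =>
    Subtype.ext (X.ker_comm (hker x hx) y), hperf ▸ le_top⟩
  obtain ⟨w, hw⟩ : ∃ w : Eb X S, (w : E) = z := ⟨⟨z, hz⟩, rfl⟩
  have hwk : w ∈ ξ.ker := MonoidHom.mem_ker.2 (Subtype.ext (by show X.π (w : E) = 1; rw [hw, e]))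
  have h7 := lift_R X S 7
  have hU : ∀ (u : Eb X S) (h : u ∈ ((S.R 7).subgroupOf M).comap ξ), u ∈ ξ.ker →
      (⟨u, h⟩ : ((S.R 7).subgroupOf M).comap ξ) ∈ commutator (((S.R 7).subgroupOf M).comap ξ) → u = 1 := by
    intro u hu huk hc
    have hle : commutator (((S.R 7).subgroupOf M).comap ξ) ≤
        (TR X S 7).comap ((Eb X S).subtype.comp (Subgroup.subtype _)) := by
      rw [commutator_def, Subgroup.commutator_le]
      rintro a - b -
      show ((⁅(a : Eb X S), (b : Eb X S)⁆ : Eb X S) : E) ∈ TR X S 7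
      have key : ∀ c : ((S.R 7).subgroupOf M).comap ξ, ∃ t ∈ TR X S 7, ∀ y : E,
          ((c : Eb X S) : E) * y * ((c : Eb X S) : E)⁻¹ = t * y * t⁻¹ := fun c => by
        obtain ⟨t, ht, et⟩ := h7.exists_mem (Subgroup.mem_subgroupOf.1 (Subgroup.mem_comap.1 c.2))
        exact ⟨t, ht, fun y => X.conj_congr et.symm y⟩
      obtain ⟨t, ht, et⟩ := key a
      obtain ⟨s, hs', es⟩ := key b
      rw [commutatorElement_def]
      simp only [Subgroup.coe_mul, Subgroup.coe_inv]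
      rw [et, show t * ((b : Eb X S) : E) * t⁻¹ * ((b : Eb X S) : E)⁻¹ =
        t * (((b : Eb X S) : E) * t⁻¹ * ((b : Eb X S) : E)⁻¹) by group, es]
      exact mul_mem ht (mul_mem (mul_mem hs' (inv_mem ht)) (inv_mem hs'))
    exact Subtype.ext (h7.inj _ (hle hc) (hker u huk))
  rw [← hw]
  suffices w = 1 by rw [this]; rfl
  rw [← orderOf_eq_one_iff]
  by_contra hne
  obtain ⟨r, hr, hrz⟩ := Nat.exists_prime_and_dvd hne
  have h1 := CfsgLib.Known.SL2Mult.pow_index_eq_one ξ hstem ((S.R 7).subgroupOf M) hU hwk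
  have hdiv : r ∣ ((S.R 7).subgroupOf M).index := hrz.trans (orderOf_dvd_of_pow_eq_one h1)
  subst hM
  obtain ⟨C, hC, hCr⟩ := S.multB r hr hdiv
  have hcomm : ∀ (u : Eb X S) (h : u ∈ C.comap ξ), u ∈ ξ.ker →
      (⟨u, h⟩ : C.comap ξ) ∈ commutator (C.comap ξ) → u = 1 := by
    intro u hu _ hc
    let f : C.comap ξ →* C := ξ.subgroupComap C
    have hf : f.ker ≤ Subgroup.center (C.comap ξ) := fun x hx => Subgroup.mem_center_iff.2 fun y =>
      Subtype.ext (Subgroup.mem_center_iff.1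
        (hstem.2.1 (MonoidHom.mem_ker.2 (congrArg Subtype.val (MonoidHom.mem_ker.1 hx)))) y)
    have hab : IsMulCommutative (C.comap ξ) :=
      MonoidHom.isMulCommutative_of_isCyclic_of_ker_le_center f hf
    have hbot : commutator (C.comap ξ) = ⊥ := by
      rw [eq_bot_iff, commutator_def, Subgroup.commutator_le]
      intro a _ b _
      rw [Subgroup.mem_bot, commutatorElement_eq_one_iff_mul_comm]
      exact hab.is_comm.comm a b
    rw [hbot, Subgroup.mem_bot] at hc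
    exact congrArg Subtype.val hc
  have h2 := CfsgLib.Known.SL2Mult.pow_index_eq_one ξ hstem C hcomm hwk
  exact hCr (hrz.trans (orderOf_dvd_of_pow_eq_one h2))

end CfsgLib.Lie.OctCover
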