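import Cfsg.Agent.Lib.Lie.Twisted.OctCover.Basic

/-!
# Every root subgroup lifts
-/

set_option autoImplicit false

namespace CfsgLib.Lie.OctCover

open CfsgLib.Lie.G2Cover (cj mem_cj conj_mem_cj Rigid Ext NormBy cm_mem_of_rigid)
open CfsgLib.Lie.G2Cover.Ext (IsLift Zero csub zero_of_rigid)
open scoped commutatorElement

universe u

variable {G : Type u} [Group G] {E : Type u} [Group E] (X : Ext G E) (S : Sys G)

/-- lifts of the root subgroups -/
noncomputable def TR (k : ZMod 16) : Subgroup E := X.csub S.H (S.R k)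

variable {a : E}

theorem cj_H {g : G} (hg : g ∈ S.H) : cj g S.H = S.H := by
  ext x
  rw [mem_cj]
  constructor
  · intro h
    have := mul_mem (mul_mem hg h) (inv_mem hg)
    simpa [mul_assoc] using this
  · exact fun h => mul_mem (mul_mem (inv_mem hg) h) hg

theorem cj_TR_H (ha : X.π a ∈ S.H) (k : ZMod 16) : cj a (TR X S k) = TR X S k := by
  rw [TR, X.csub_conj, cj_H S ha, S.hR _ ha]

theorem cj_TR_na (ha : X.π a = S.na) (k : ZMod 16) : cj a (TR X S k) = TR X S (8 - k) := by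
  rw [TR, TR, X.csub_conj, ha, S.naH, S.naR]

theorem cj_TR_nb (ha : X.π a = S.nb) (k : ZMod 16) : cj a (TR X S k) = TR X S (6 - k) := by
  rw [TR, TR, X.csub_conj, ha, S.nbH, S.nbR]

theorem normBy_H_TR (k : ZMod 16) : NormBy X S.H (TR X S k) := fun a ha q hq => by
  rw [← cj_TR_H X S ha k]; exact conj_mem_cj hq

theorem rot_R (k : ZMod 16) : cj (S.na * S.nb) (S.R k) = S.R (k + 2) := by
  rw [← cj_cj, S.nbR, S.naR]; congr 1; ring

theorem rot_TR (k : ZMod 16) : cj (X.lf S.na * X.lf S.nb) (TR X S k) = TR X S (k + 2) := by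
  rw [← cj_cj, cj_TR_nb X S (X.π_lf _), cj_TR_na X S (X.π_lf _)]; congr 1; ring

theorem lift_orbit {j : ZMod 16} (h0 : X.IsLift (TR X S j) (S.R j)) (i : ℕ) :
    X.IsLift (TR X S (j + 2 * i)) (S.R (j + 2 * i)) := by
  induction i with
  | zero => simpa using h0
  | succ i ih =>
    have h := ih.conj (X.lf S.na * X.lf S.nb)
    rw [rot_TR, map_mul, X.π_lf, X.π_lf, rot_R] at h
    push_cast
    rwa [mul_add, mul_one, ← add_assoc]

theorem comm_adj {i : ℕ} (hi : i + 1 < 8) :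
    ∀ x ∈ S.R (i : ZMod 16), ∀ y ∈ S.R ((i + 1 : ℕ) : ZMod 16), x * y = y * x := fun x hx y hy => by
  have h := S.comm i 0 hi x hx y hy
  rwa [spanR, Subgroup.mem_bot, commutatorElement_eq_one_iff_mul_comm] at h

theorem zero_adj {i : ℕ} (hi : i + 1 < 8) : X.Zero (S.R (i : ZMod 16)) (S.R ((i + 1 : ℕ) : ZMod 16)) :=
  zero_of_rigid (S.rig i (i + 1) (Nat.lt_succ_self i) hi) (comm_adj S hi) (fun _ hh => S.hR _ hh _)
    fun _ hh => S.hR _ hh _

theorem z12 : X.Zero (S.R 1) (S.R 2) := by simpa using zero_adj X S (i := 1) (by norm_num)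

theorem z23 : X.Zero (S.R 2) (S.R 3) := by simpa using zero_adj X S (i := 2) (by norm_num)

theorem z02 : X.Zero (S.R 0) (S.R 2) := by
  exact zero_of_rigid (H := S.H) (U := S.R 0) (V := S.R 2) (S.rig 0 2 (by norm_num) (by norm_num)) S.cR02 (fun _ hh => S.hR _ hh _) fun _ hh => S.hR _ hh _

theorem z00 : X.Zero (S.R 0) (S.R 0) :=
  zero_of_rigid S.r00 S.cR0 (fun _ hh => S.hR _ hh _) fun _ hh => S.hR _ hh _

theorem z22 : X.Zero (S.R 2) (S.R 2) := by
  have h := (z00 X S).conj (S.na * S.nb)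
  rwa [rot_R, zero_add] at h

theorem lift_R0 [Finite G] : X.IsLift (TR X S 0) (S.R 0) := by
  obtain ⟨h, hh, hfix⟩ := S.fpfA
  refine lift_root X (U := ⊥) (Subgroup.mem_inf.1 hh).1 S.hH (fun g hg => S.hR g hg 0)
    (fun g _ => Subgroup.map_bot _) bot_le ?_ hfix (fun x hx y hy => ?_) fun x _ y hy => ?_
  · rw [csub_bot]; exact lift_bot X
  · rw [z00 X S x hx y hy]; exact one_mem _
  · rw [Subgroup.mem_bot.1 hy]; exact X.cm_one_right x

theorem lift_even [Finite G] (i : ℕ) : X.IsLift (TR X S (2 * i)) (S.R (2 * i)) := by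
  simpa using lift_orbit X S (lift_R0 X S) i

theorem cm_13 [Finite G] : ∀ x ∈ S.R 1, ∀ y ∈ S.R 3, X.cm x y ∈ TR X S 2 := by
  have h2 : X.IsLift (TR X S 2) (S.R 2) := by simpa using lift_even X S 1
  refine cm_mem_of_rigid h2 (H := S.H) (U := S.R 1) (V := S.R 3) (S.rig 1 3 (by norm_num) (by norm_num)) (fun _ hh => S.hR _ hh _) (fun _ hh => S.hR _ hh _) ?_ ?_ (normBy_H_TR X S 2)
    fun x hx y hy => ?_
  · exact fun a ha q hq => NormBy.of_cm h2 le_rfl (CfsgLib.Lie.G2Cover.cm_zero_mem X (z12 X S) _) ha hq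
  · exact fun a ha q hq => NormBy.of_cm h2 le_rfl (CfsgLib.Lie.G2Cover.cm_zero_mem X (z23 X S).symm _) ha hq
  · have h := S.comm 1 1 (by norm_num) x (by simpa using hx) y (by simpa using hy)
    simpa [spanR] using h

theorem zero_centre [Finite G] : X.Zero (S.R 1) S.U1 := by
  intro t ht z hz
  have hle : Subgroup.closure {z | ∃ x ∈ S.R 0, ∃ y ∈ S.R 3, z = ⁅x, y⁆} ≤
      (Subgroup.centralizer {X.lf t}).map X.π := by
    rw [Subgroup.closure_le]
    rintro _ ⟨x, hx, y, hy, rfl⟩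
    refine ⟨X.cm x y, Subgroup.mem_centralizer_singleton_iff.2 ?_, X.π_cm x y⟩
    have h2 : X.IsLift (TR X S 2) (S.R 2) := by simpa using lift_even X S 1
    have hc : ⁅t, y⁆ ∈ S.R 2 := by rw [← X.π_cm]; exact h2.π_mem (cm_13 X S t ht y hy)
    have htx : t * x * t⁻¹ = x := by
      have := comm_adj S (i := 0) (by norm_num) x (by simpa using hx) t (by simpa using ht)
      rw [← this, mul_inv_cancel_right]
    have hw : X.cm ⁅t, y⁆ ⁅x, y⁆ = 1 := by
      have hle2 : S.R 1 ⊔ S.R 2 ≤ (Subgroup.centralizer {X.lf ⁅t, y⁆}).map X.π := by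
        refine sup_le (fun a ha => ?_) fun a ha => ?_
        · exact ⟨X.lf a, Subgroup.mem_centralizer_singleton_iff.2
            ((z12 X S).commute (by rw [X.π_lf]; exact ha) (by rw [X.π_lf]; exact hc)), X.π_lf a⟩
        · exact ⟨X.lf a, Subgroup.mem_centralizer_singleton_iff.2
            ((z22 X S).commute (by rw [X.π_lf]; exact ha) (by rw [X.π_lf]; exact hc)), X.π_lf a⟩
      have h := S.comm 0 2 (by norm_num) x (by simpa using hx) y (by simpa using hy)
      simp only [spanR, sup_bot_eq] at h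
      obtain ⟨b, hb, e⟩ := hle2 (by simpa using h)
      exact (X.cm_one_iff (X.π_lf _) e).2 (Subgroup.mem_centralizer_singleton_iff.1 hb).symm
    have e : X.lf t * X.cm x y * (X.lf t)⁻¹ = X.cm x y := by
      rw [X.cm_conj, X.π_lf, htx, show t * y * t⁻¹ = ⁅t, y⁆ * y by rw [commutatorElement_def]; group,
        X.cm_mul_right, z02 X S x hx _ hc, one_mul,
        (X.cm_one_iff (a := X.lf ⁅t, y⁆) (b := X.cm x y) (X.π_lf _) (X.π_cm x y)).1 hw, mul_inv_cancel_right]
    exact (mul_inv_eq_iff_eq_mul.1 e).symm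
  obtain ⟨b, hb, e⟩ := hle (S.genU hz)
  exact (X.cm_one_iff (X.π_lf t) e).2 (Subgroup.mem_centralizer_singleton_iff.1 hb).symm

theorem lift_R1 [Finite G] : X.IsLift (TR X S 1) (S.R 1) := by
  obtain ⟨h, hh, hfix⟩ := S.fpf1
  have hz := zero_centre X S
  have hU : X.IsLift (X.csub S.H S.U1) S.U1 := lift_root X (U := ⊥) hh S.hH S.hU
    (fun g _ => Subgroup.map_bot _) bot_le (by rw [csub_bot]; exact lift_bot X) (fun s hs => hfix s (S.U_le hs))
    (fun x hx y hy => by rw [hz x (S.U_le hx) y hy]; exact one_mem _)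
    fun x _ y hy => by rw [Subgroup.mem_bot.1 hy]; exact X.cm_one_right x
  refine lift_root X hh S.hH (fun g hg => S.hR g hg 1) S.hU S.U_le hU hfix ?_ hz
  have hN : NormBy X (S.R 1) (X.csub S.H S.U1) := fun a ha q hq =>
    NormBy.of_cm hU le_rfl (CfsgLib.Lie.G2Cover.cm_zero_mem X hz _) ha hq
  intro x hx y hy
  classical
  have hδ : ∀ x ∈ S.R 1, ∀ y ∈ S.R 1, ∃ δ ∈ X.π.ker, ∃ q ∈ X.csub S.H S.U1, X.cm x y = δ * q :=
    fun x hx y hy => by
      obtain ⟨q, hq, e⟩ := hU.exists_mem (S.cU x hx y hy)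
      exact ⟨X.cm x y * q⁻¹, MonoidHom.mem_ker.2 (by rw [map_mul, map_inv, e, X.π_cm, mul_inv_cancel]), q, hq, by group⟩
  have huniq : ∀ {z z' q q' : E}, z ∈ X.π.ker → z' ∈ X.π.ker → q ∈ X.csub S.H S.U1 → q' ∈ X.csub S.H S.U1 →
      z * q = z' * q' → z = z' := by
    intro z z' q q' hz hz' hq hq' e
    have : q = q' := hU.eq hq hq' (by
      have := congrArg X.π e
      rwa [map_mul, map_mul, MonoidHom.mem_ker.1 hz, MonoidHom.mem_ker.1 hz', one_mul, one_mul] at this)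
    rw [this] at e
    exact mul_right_cancel e
  let inst : CommGroup X.π.ker :=
    { (inferInstance : Group X.π.ker) with
      mul_comm := fun a b => Subtype.ext (X.ker_comm (MonoidHom.mem_ker.1 b.2) _) }
  let f : G → G → X.π.ker := fun x y => if h : x ∈ S.R 1 ∧ y ∈ S.R 1 then
    ⟨(hδ x h.1 y h.2).choose, (hδ x h.1 y h.2).choose_spec.1⟩ else 1
  have hf : ∀ x ∈ S.R 1, ∀ y ∈ S.R 1, ∃ q ∈ X.csub S.H S.U1, X.cm x y = (f x y : E) * q := fun x hx y hy => by
    obtain ⟨-, q, hq, e⟩ := (hδ x hx y hy).choose_spec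
    exact ⟨q, hq, by simp only [f, dif_pos (And.intro hx hy)]; exact e⟩
  have hc : ∀ (a : E) (x y : G), a * (f x y : E) = (f x y : E) * a := fun a x y =>
    X.ker_comm (MonoidHom.mem_ker.1 (f x y).2) a
  have h1 : f x y = 1 := by
    refine S.r11 f (fun a ha a' ha' b hb => Subtype.ext ?_) (fun a ha b hb b' hb' => Subtype.ext ?_)
      (fun a ha v hv => ?_) (fun g hg a ha b hb => Subtype.ext ?_) x hx y hy
    · obtain ⟨q, hq, e⟩ := hf _ (mul_mem ha ha') b hb
      obtain ⟨q2, hq2, e2⟩ := hf a ha b hb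
      obtain ⟨q3, hq3, e3⟩ := hf a' ha' b hb
      have hn := hN (X.lf a) (by rw [X.π_lf]; exact ha) q3 hq3
      refine huniq (f _ b).2 (mul_mem (f a b).2 (f a' b).2) hq (mul_mem hn hq2) (e.symm.trans ?_)
      show _ = (f a b : E) * (f a' b : E) * _
      rw [X.cm_mul_left, e2, e3]
      calc X.lf a * ((f a' b : E) * q3) * (X.lf a)⁻¹ * ((f a b : E) * q2)
          = (X.lf a * (f a' b : E)) * q3 * (X.lf a)⁻¹ * (f a b : E) * q2 := by group
        _ = (f a' b : E) * (X.lf a * q3 * (X.lf a)⁻¹ * (f a b : E)) * q2 := by rw [hc (X.lf a) a' b]; group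
        _ = (f a' b : E) * ((f a b : E) * (X.lf a * q3 * (X.lf a)⁻¹)) * q2 := by rw [hc (X.lf a * q3 * (X.lf a)⁻¹)]
        _ = ((f a' b : E) * (f a b : E)) * ((X.lf a * q3 * (X.lf a)⁻¹) * q2) := by group
        _ = _ := by rw [hc (f a' b : E)]
    · obtain ⟨q, hq, e⟩ := hf a ha _ (mul_mem hb hb')
      obtain ⟨q2, hq2, e2⟩ := hf a ha b hb
      obtain ⟨q3, hq3, e3⟩ := hf a ha b' hb'
      have hn := hN (X.lf b) (by rw [X.π_lf]; exact hb) q3 hq3
      refine huniq (f a _).2 (mul_mem (f a b).2 (f a b').2) hq (mul_mem hq2 hn) (e.symm.trans ?_)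
      show _ = (f a b : E) * (f a b' : E) * _
      rw [X.cm_mul_right, e2, e3]
      calc (f a b : E) * q2 * (X.lf b * ((f a b' : E) * q3) * (X.lf b)⁻¹)
          = (f a b : E) * (q2 * (X.lf b * (f a b' : E))) * q3 * (X.lf b)⁻¹ := by group
        _ = (f a b : E) * (q2 * (f a b' : E)) * X.lf b * q3 * (X.lf b)⁻¹ := by rw [hc (X.lf b)]; group
        _ = (f a b : E) * ((f a b' : E) * q2) * X.lf b * q3 * (X.lf b)⁻¹ := by rw [hc q2]
        _ = _ := by group
    · have hv' := S.U_le hv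
      constructor
      · obtain ⟨q, hq, e⟩ := hf a ha v hv'
        rw [hz a ha v hv] at e
        exact Subtype.ext (huniq (one_mem _) (f a v).2 (one_mem _) hq (by rw [one_mul]; exact e)).symm
      · obtain ⟨q, hq, e⟩ := hf v hv' a ha
        rw [← X.cm_inv, hz a ha v hv, inv_one] at e
        exact Subtype.ext (huniq (one_mem _) (f v a).2 (one_mem _) hq (by rw [one_mul]; exact e)).symm
    · have h1' : g * a * g⁻¹ ∈ S.R 1 := S.hR g hg 1 ▸ conj_mem_cj ha
      have h2' : g * b * g⁻¹ ∈ S.R 1 := S.hR g hg 1 ▸ conj_mem_cj hb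
      obtain ⟨q, hq, e⟩ := hf _ h1' _ h2'
      obtain ⟨q2, hq2, e2⟩ := hf a ha b hb
      have hn : X.lf g * q2 * (X.lf g)⁻¹ ∈ X.csub S.H S.U1 := by
        have := conj_mem_cj (g := X.lf g) hq2
        rwa [X.csub_conj, X.π_lf, cj_H S hg, S.hU g hg] at this
      refine huniq (f _ _).2 (f a b).2 hq hn (e.symm.trans ?_)
      have e4 := X.cm_conj (X.lf g) a b
      rw [X.π_lf, e2] at e4
      rw [← e4]
      calc X.lf g * ((f a b : E) * q2) * (X.lf g)⁻¹ = X.lf g * (f a b : E) * q2 * (X.lf g)⁻¹ := by group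
        _ = _ := by rw [hc (X.lf g)]; group
  obtain ⟨q, hq, e⟩ := hf x hx y hy
  rw [e, h1, OneMemClass.coe_one, one_mul]
  exact hq

theorem lift_R [Finite G] (k : ZMod 16) : X.IsLift (TR X S k) (S.R k) := by
  have hk : ∃ i : ℕ, k = 2 * i ∨ k = 1 + 2 * i := by
    refine ⟨k.val / 2, ?_⟩
    rcases Nat.even_or_odd' k.val with ⟨j, hj | hj⟩
    · left
      conv_lhs => rw [← ZMod.natCast_zmod_val k, hj]
      rw [hj, Nat.mul_div_cancel_left _ (by norm_num : 0 < 2)]
      push_cast; ring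
    · right
      conv_lhs => rw [← ZMod.natCast_zmod_val k, hj]
      rw [hj, show (2 * j + 1) / 2 = j by omega]
      push_cast; ring
  obtain ⟨i, rfl | rfl⟩ := hk
  · exact lift_even X S i
  · exact lift_orbit X S (lift_R1 X S) i

end CfsgLib.Lie.OctCover
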