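import Cfsg.Agent.Lib.Lie.Twisted.OctCover.RankOne

/-!
# The lift of the torus and of the monomial group
-/

set_option autoImplicit false

namespace CfsgLib.Lie.OctCover

open CfsgLib.Lie.G2Cover (cj mem_cj conj_mem_cj Rigid Ext NormBy)
open CfsgLib.Lie.G2Cover.Ext (IsLift Zero csub)
open scoped commutatorElement

universe u

variable {G : Type u} [Group G] {E : Type u} [Group E] (X : Ext G E) (S : Sys G)

variable [Finite G]

theorem exists_na : ∃ a ∈ Ea X S, X.π a = S.na := by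
  have h := S.naM
  rw [← map_Ea X S] at h
  exact h

theorem exists_nb : ∃ b ∈ Eb X S, X.π b = S.nb := by
  have h := S.nbM
  rw [← map_Eb X S] at h
  exact h

/-- the lift of `na` -/
noncomputable def la : E := (exists_na X S).choose

theorem la_mem : la X S ∈ Ea X S := (exists_na X S).choose_spec.1

theorem π_la : X.π (la X S) = S.na := (exists_na X S).choose_spec.2

/-- the lift of `nb` -/
noncomputable def lb : E := (exists_nb X S).choose

theorem lb_mem : lb X S ∈ Eb X S := (exists_nb X S).choose_spec.1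

theorem π_lb : X.π (lb X S) = S.nb := (exists_nb X S).choose_spec.2

theorem normBy_H_Ea : NormBy X S.H (Ea X S) := normBy_H_EP X S 0

theorem normBy_H_Eb : NormBy X S.H (Eb X S) := normBy_H_EP X S 7

variable [Finite E]

theorem Ea_eq {a b : E} (ha : a ∈ Ea X S) (hb : b ∈ Ea X S) (e : X.π a = X.π b) : a = b :=
  mul_inv_eq_one.1 (Ea_inj X S (mul_mem ha (inv_mem hb)) (by rw [map_mul, map_inv, e, mul_inv_cancel]))

theorem Eb_eq {a b : E} (ha : a ∈ Eb X S) (hb : b ∈ Eb X S) (e : X.π a = X.π b) : a = b :=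
  mul_inv_eq_one.1 (Eb_inj X S (mul_mem ha (inv_mem hb)) (by rw [map_mul, map_inv, e, mul_inv_cancel]))

/-- the part of the torus in the short root SL₂ -/
noncomputable def Ta : Subgroup E := S.H.comap X.π ⊓ Ea X S

/-- its conjugate -/
noncomputable def Tb : Subgroup E := cj (lb X S) (Ta X S)

/-- the lift of the torus -/
noncomputable def HT : Subgroup E := Ta X S ⊔ Tb X S

omit [Finite G] [Finite E] in
theorem conj_H {n : E} (hn : cj (X.π n) S.H = S.H) {h : E} (hh : X.π h ∈ S.H) :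
    X.π (n * h * n⁻¹) ∈ S.H ∧ X.π (n⁻¹ * h * n) ∈ S.H := by
  refine ⟨?_, ?_⟩
  · rw [map_mul, map_mul, map_inv, ← hn]; exact conj_mem_cj hh
  · rw [map_mul, map_mul, map_inv]; exact mem_cj.1 (by rw [hn]; exact hh)

omit [Finite E] in
theorem lb_H : cj (X.π (lb X S)) S.H = S.H := by rw [π_lb, S.nbH]

omit [Finite E] in
theorem la_H : cj (X.π (la X S)) S.H = S.H := by rw [π_la, S.naH]

theorem comm_Ta {h t : E} (hh : X.π h ∈ S.H) (ht : t ∈ Ta X S) : h * t = t * h := by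
  obtain ⟨ht1, ht2⟩ := Subgroup.mem_inf.1 ht
  have e : h * t * h⁻¹ = t := Ea_eq X S (normBy_H_Ea X S h hh t ht2) ht2 (by
    rw [map_mul, map_mul, map_inv, S.hH _ hh _ ht1, mul_inv_cancel_right])
  exact mul_inv_eq_iff_eq_mul.1 e

omit [Finite E] in
theorem Tb_π {t : E} (ht : t ∈ Tb X S) : X.π t ∈ S.H := by
  have h := (conj_H X S (lb_H X S) (Subgroup.mem_inf.1 (mem_cj.1 ht)).1).1
  rwa [show lb X S * ((lb X S)⁻¹ * t * lb X S) * (lb X S)⁻¹ = t by group] at h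

theorem comm_Tb {h t : E} (hh : X.π h ∈ S.H) (ht : t ∈ Tb X S) : h * t = t * h := by
  have e := comm_Ta X S (conj_H X S (lb_H X S) hh).2 (mem_cj.1 ht)
  calc h * t = lb X S * ((lb X S)⁻¹ * h * lb X S * ((lb X S)⁻¹ * t * lb X S)) * (lb X S)⁻¹ := by group
    _ = lb X S * ((lb X S)⁻¹ * t * lb X S * ((lb X S)⁻¹ * h * lb X S)) * (lb X S)⁻¹ := by rw [e]
    _ = t * h := by group

omit [Finite E] in
theorem HT_le : HT X S ≤ S.H.comap X.π := sup_le inf_le_left fun _ ht => Tb_π X S ht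

theorem mem_HT {t : E} (ht : t ∈ HT X S) : ∃ a ∈ Ta X S, ∃ b ∈ Tb X S, t = a * b := by
  have hle : Ta X S ≤ Subgroup.normalizer (Tb X S : Set E) := fun a ha => Subgroup.mem_normalizer_iff.2 fun b => by
    refine ⟨fun hb => ?_, fun hb => ?_⟩
    · rw [comm_Tb X S (Subgroup.mem_inf.1 ha).1 hb, mul_inv_cancel_right]; exact hb
    · have e := comm_Tb X S (h := a⁻¹) (by rw [map_inv]; exact inv_mem (Subgroup.mem_inf.1 ha).1) hb
      have e2 : b = a⁻¹ * (a * b * a⁻¹) * a := by group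
      rw [e2, e, inv_mul_cancel_right]; exact hb
  rw [← SetLike.mem_coe, HT, Subgroup.coe_mul_of_left_le_normalizer_right _ _ hle] at ht
  obtain ⟨a, ha, b, hb, rfl⟩ := ht
  exact ⟨a, ha, b, hb, rfl⟩

theorem HT_inj {t : E} (ht : t ∈ HT X S) (e : X.π t = 1) : t = 1 := by
  obtain ⟨a, ha, b, hb, rfl⟩ := mem_HT X S ht
  rw [map_mul] at e
  have hb' := mem_cj.1 hb
  obtain ⟨ha1, ha2⟩ := Subgroup.mem_inf.1 ha
  have hm : X.π a ∈ S.H ⊓ (S.R 0 ⊔ S.R 8) :=
    Subgroup.mem_inf.2 ⟨ha1, map_Ea X S ▸ Subgroup.mem_map_of_mem _ ha2⟩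
  have hm2 : S.nb⁻¹ * X.π a * S.nb ∈ S.R 0 ⊔ S.R 8 := by
    rw [eq_inv_of_mul_eq_one_left e, ← π_lb X S, ← map_inv, ← map_inv, ← map_mul, ← map_mul,
      show (lb X S)⁻¹ * b⁻¹ * lb X S = ((lb X S)⁻¹ * b * lb X S)⁻¹ by group, map_inv]
    exact inv_mem (map_Ea X S ▸ Subgroup.mem_map_of_mem _ (Subgroup.mem_inf.1 hb').2)
  have hc := S.hHmeet _ hm hm2
  have k : ∀ j : ZMod 16, S.R j ≤ S.R 7 ⊔ S.R 15 → TR X S j ≤ Subgroup.centralizer {a} := fun j hj t ht => by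
    rw [Subgroup.mem_centralizer_singleton_iff]
    have := (lift_R X S j).eq (normBy_H_TR X S j a ha1 t ht) ht
      (by rw [map_mul, map_mul, map_inv, hc _ (hj ((lift_R X S j).π_mem ht)), mul_inv_cancel_right])
    exact (mul_inv_eq_iff_eq_mul.1 this).symm
  have hlb : lb X S * a = a * lb X S := by
    refine Subgroup.mem_centralizer_singleton_iff.1 ((?_ : Eb X S ≤ Subgroup.centralizer {a}) (lb_mem X S))
    exact sup_le (k 7 le_sup_left) (k (7 + 8) (by rw [show (7 : ZMod 16) + 8 = 15 by decide]; exact le_sup_right))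
  have hab : (lb X S)⁻¹ * (a * b) * lb X S ∈ Ta X S := by
    rw [show (lb X S)⁻¹ * (a * b) * lb X S = (lb X S)⁻¹ * (a * lb X S) * ((lb X S)⁻¹ * b * lb X S) by group,
      ← hlb, inv_mul_cancel_left]
    exact mul_mem ha hb'
  have h1 := Ea_inj X S (Subgroup.mem_inf.1 hab).2 (by
    rw [map_mul, map_mul, map_mul, e, mul_one, ← map_mul, inv_mul_cancel, map_one])
  calc a * b = lb X S * ((lb X S)⁻¹ * (a * b) * lb X S) * (lb X S)⁻¹ := by group
    _ = 1 := by rw [h1]; group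

omit [Finite E] in
theorem HT_surj {h : G} (hh : h ∈ S.H) : ∃ t ∈ HT X S, X.π t = h := by
  obtain ⟨a, ha, b, hb, rfl⟩ := S.hHgen h hh
  have key : ∀ c ∈ S.H ⊓ (S.R 0 ⊔ S.R 8), ∃ t ∈ Ta X S, X.π t = c := fun c hc => by
    have := hc.2
    rw [← map_Ea X S] at this
    obtain ⟨t, ht, rfl⟩ := this
    exact ⟨t, Subgroup.mem_inf.2 ⟨hc.1, ht⟩, rfl⟩
  obtain ⟨x, hx, rfl⟩ := key a ha
  obtain ⟨y, hy, rfl⟩ := key b hb
  exact ⟨x * (lb X S * y * (lb X S)⁻¹), Subgroup.mul_mem_sup hx (conj_mem_cj hy), by simp [π_lb]⟩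

theorem la_HT {t : E} (ht : t ∈ HT X S) : la X S * t * (la X S)⁻¹ ∈ HT X S := by
  have h : HT X S ≤ (HT X S).comap (MulAut.conj (la X S)).toMonoidHom := by
    refine sup_le (fun a ha => ?_) fun b hb => ?_
    · show la X S * a * (la X S)⁻¹ ∈ HT X S
      obtain ⟨h1, h2⟩ := Subgroup.mem_inf.1 ha
      exact Subgroup.mem_sup_left (Subgroup.mem_inf.2 ⟨(conj_H X S (la_H X S) h1).1,
        mul_mem (mul_mem (la_mem X S) h2) (inv_mem (la_mem X S))⟩)
    · show la X S * b * (la X S)⁻¹ ∈ HT X S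
      rw [show la X S * b * (la X S)⁻¹ = (la X S * b * (la X S)⁻¹ * b⁻¹) * b by group]
      refine Subgroup.mul_mem_sup (Subgroup.mem_inf.2 ⟨?_, ?_⟩) hb
      · show X.π _ ∈ S.H
        rw [map_mul, map_inv]
        exact mul_mem (conj_H X S (la_H X S) (Tb_π X S hb)).1 (inv_mem (Tb_π X S hb))
      · rw [show la X S * b * (la X S)⁻¹ * b⁻¹ = la X S * (b * (la X S)⁻¹ * b⁻¹) by group]
        exact mul_mem (la_mem X S) (normBy_H_Ea X S b (Tb_π X S hb) _ (inv_mem (la_mem X S)))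
  exact h ht

omit [Finite G] [Finite E] in
theorem sqb_H : S.nb * S.nb ∈ S.H := by
  obtain ⟨h, hh, e⟩ := S.sqb
  rw [← e, commutatorElement_def, show h * S.nb * h⁻¹ * S.nb⁻¹ = h * (S.nb * h⁻¹ * S.nb⁻¹) by group]
  exact mul_mem hh (S.nbH ▸ conj_mem_cj (inv_mem hh))

theorem lb_HT {t : E} (ht : t ∈ HT X S) : lb X S * t * (lb X S)⁻¹ ∈ HT X S := by
  have h : HT X S ≤ (HT X S).comap (MulAut.conj (lb X S)).toMonoidHom := by
    refine sup_le (fun a ha => Subgroup.mem_sup_right (conj_mem_cj ha)) fun b hb => ?_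
    show lb X S * b * (lb X S)⁻¹ ∈ HT X S
    refine Subgroup.mem_sup_left ?_
    have hsq : X.π (lb X S * lb X S) ∈ S.H := by rw [map_mul, π_lb]; exact sqb_H S
    rw [show lb X S * b * (lb X S)⁻¹ =
      (lb X S * lb X S) * ((lb X S)⁻¹ * b * lb X S) * (lb X S * lb X S)⁻¹ by group,
      comm_Ta X S hsq (mem_cj.1 hb), mul_inv_cancel_right]
    exact mem_cj.1 hb
  exact h ht

omit [Finite E] in
theorem la_sq : la X S * la X S ∈ HT X S :=
  Subgroup.mem_sup_left (Subgroup.mem_inf.2 ⟨by rw [Subgroup.mem_comap, map_mul, π_la]; exact S.sqa,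
    mul_mem (la_mem X S) (la_mem X S)⟩)

theorem lb_sq : lb X S * lb X S ∈ HT X S := by
  obtain ⟨g, hg, e⟩ := S.sqb
  obtain ⟨t, ht, rfl⟩ := HT_surj X S hg
  have e2 : ⁅t, lb X S⁆ = lb X S * lb X S :=
    Eb_eq X S (mul_mem (normBy_H_Eb X S t hg _ (lb_mem X S)) (inv_mem (lb_mem X S)))
      (mul_mem (lb_mem X S) (lb_mem X S)) (by rw [map_commutatorElement, map_mul, π_lb]; exact e)
  rw [← e2, commutatorElement_def, show t * lb X S * t⁻¹ * (lb X S)⁻¹ = t * (lb X S * t⁻¹ * (lb X S)⁻¹) by group]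
  exact mul_mem ht (lb_HT X S (inv_mem ht))

omit [Finite E] in
theorem cj_word_Eb :
    cj (la X S * lb X S * la X S * lb X S * la X S * lb X S * la X S) (Eb X S) = Eb X S := by
  simp only [Eb, EP, cj_sup, ← cj_cj, cj_TR_na X S (π_la X S), cj_TR_nb X S (π_lb X S)]
  congr 2

theorem braid :
    ∃ t ∈ HT X S, (la X S * lb X S * la X S * lb X S * la X S * lb X S * la X S) * lb X S *
      (la X S * lb X S * la X S * lb X S * la X S * lb X S * la X S)⁻¹ = t * lb X S := by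
  obtain ⟨g, hg, e⟩ := S.hbraid
  obtain ⟨h, hh, rfl⟩ := HT_surj X S hg
  have c := cj_word_Eb X S
  obtain ⟨P, hP⟩ : ∃ P, P = la X S * lb X S * la X S * lb X S * la X S * lb X S * la X S := ⟨_, rfl⟩
  rw [← hP] at c ⊢
  have hπ : X.π P = S.na * S.nb * S.na * S.nb * S.na * S.nb * S.na := by simp [hP, π_la, π_lb]
  have k : P * lb X S * P⁻¹ = h * lb X S * h⁻¹ :=
    Eb_eq X S (c ▸ conj_mem_cj (lb_mem X S)) (normBy_H_Eb X S h hg _ (lb_mem X S))
      (by simp only [map_mul, map_inv, hπ, π_lb]; exact e)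
  refine ⟨h * (lb X S * h⁻¹ * (lb X S)⁻¹), mul_mem hh (lb_HT X S (inv_mem hh)), ?_⟩
  rw [k]; group

/-- the lift of the monomial group -/
noncomputable def N0 : Subgroup E := HT X S ⊔ Subgroup.closure {la X S, lb X S}

omit [Finite E] in
theorem la_mem_N0 : la X S ∈ N0 X S := Subgroup.mem_sup_right (Subgroup.subset_closure (Set.mem_insert _ _))

omit [Finite E] in
theorem lb_mem_N0 : lb X S ∈ N0 X S :=
  Subgroup.mem_sup_right (Subgroup.subset_closure (Set.mem_insert_of_mem _ rfl))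

omit [Finite E] in
theorem HT_le_N0 : HT X S ≤ N0 X S := le_sup_left

theorem N0_normal {n : E} (hn : n ∈ N0 X S) {t : E} (ht : t ∈ HT X S) : n * t * n⁻¹ ∈ HT X S := by
  have h : N0 X S ≤ Subgroup.normalizer (HT X S : Set E) := by
    refine sup_le Subgroup.le_normalizer ((Subgroup.closure_le _).2 ?_)
    rintro x hx
    rw [SetLike.mem_coe, Subgroup.mem_normalizer_iff]
    intro t
    have key : ∀ x : E, (∀ t ∈ HT X S, x * t * x⁻¹ ∈ HT X S) → x * x ∈ HT X S →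
        x * t * x⁻¹ ∈ HT X S → t ∈ HT X S := fun x h hsq ht => by
      have := mul_mem (mul_mem (inv_mem hsq) (h _ ht)) hsq
      rwa [show (x * x)⁻¹ * (x * (x * t * x⁻¹) * x⁻¹) * (x * x) = t by group] at this
    rcases hx with rfl | rfl
    · exact ⟨la_HT X S, key _ (fun _ => la_HT X S) (la_sq X S)⟩
    · exact ⟨lb_HT X S, key _ (fun _ => lb_HT X S) (lb_sq X S)⟩
  exact (Subgroup.mem_normalizer_iff.1 (h hn) t).1 ht

theorem pow_eight : (la X S * lb X S) ^ 8 ∈ HT X S := by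
  obtain ⟨t, ht, hb⟩ := braid X S
  obtain ⟨a, ha⟩ : ∃ a, a = la X S := ⟨_, rfl⟩
  obtain ⟨b, hb'⟩ : ∃ b, b = lb X S := ⟨_, rfl⟩
  rw [← ha, ← hb'] at hb ⊢
  have hna : a ∈ N0 X S := ha ▸ la_mem_N0 X S
  have hnb : b ∈ N0 X S := hb' ▸ lb_mem_N0 X S
  have sa : a * a ∈ HT X S := ha ▸ la_sq X S
  have sb : b * b ∈ HT X S := hb' ▸ lb_sq X S
  have wrap : ∀ x ∈ N0 X S, x * x ∈ HT X S → ∀ s ∈ HT X S, x * s * x ∈ HT X S := fun x hx hxx s hs => by
    rw [show x * s * x = (x * s * x⁻¹) * (x * x) by group]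
    exact mul_mem (N0_normal X S hx hs) hxx
  have hPP : (a * b * a * b * a * b * a) * (a * b * a * b * a * b * a) ∈ HT X S := by
    have := wrap a hna sa _ (wrap b hnb sb _ (wrap a hna sa _ (wrap b hnb sb _ (wrap a hna sa _ (wrap b hnb sb _ sa)))))
    convert this using 1
    group
  have e : (a * b) ^ 8 = t * (b * ((a * b * a * b * a * b * a) * (a * b * a * b * a * b * a)) * b) := by
    calc (a * b) ^ 8 = ((a * b * a * b * a * b * a) * b * (a * b * a * b * a * b * a)⁻¹) *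
          ((a * b * a * b * a * b * a) * (a * b * a * b * a * b * a) * b) := by
            simp only [pow_succ, pow_zero, one_mul]; group
      _ = _ := by rw [hb]; group
  rw [e]
  exact mul_mem ht (wrap b hnb sb _ hPP)

theorem N0_form {n : E} (hn : n ∈ N0 X S) :
    ∃ t ∈ HT X S, ∃ i : ℕ, n = t * (la X S * lb X S) ^ i ∨ n = t * (la X S * lb X S) ^ i * la X S := by
  obtain ⟨a, ha⟩ : ∃ a, a = la X S := ⟨_, rfl⟩
  obtain ⟨b, hb⟩ : ∃ b, b = lb X S := ⟨_, rfl⟩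
  rw [← ha, ← hb]
  have hna : a ∈ N0 X S := ha ▸ la_mem_N0 X S
  have hnb : b ∈ N0 X S := hb ▸ lb_mem_N0 X S
  let P : E → Prop := fun n => ∃ t ∈ HT X S, ∃ i : ℕ, n = t * (a * b) ^ i ∨ n = t * (a * b) ^ i * a
  have hR : ∀ x ∈ N0 X S, ∀ s ∈ HT X S, ∀ t ∈ HT X S, ∃ t' ∈ HT X S, t * x * s = t' * x := fun x hx s hs t ht =>
    ⟨t * (x * s * x⁻¹), mul_mem ht (N0_normal X S hx hs), by group⟩
  have hpow : ∀ i, (a * b) ^ i ∈ N0 X S := fun i => pow_mem (mul_mem hna hnb) i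
  have PT : ∀ n, P n → ∀ s ∈ HT X S, P (n * s) := by
    rintro n ⟨t, ht, i, rfl | rfl⟩ s hs
    · obtain ⟨t', ht', e⟩ := hR _ (hpow i) s hs t ht
      exact ⟨t', ht', i, Or.inl e⟩
    · obtain ⟨t', ht', e⟩ := hR _ (mul_mem (hpow i) hna) s hs t ht
      exact ⟨t', ht', i, Or.inr (by rw [mul_assoc t', ← e]; group)⟩
  have Pa : ∀ n, P n → P (n * a) := by
    rintro n ⟨t, ht, i, rfl | rfl⟩
    · exact ⟨t, ht, i, Or.inr rfl⟩
    · obtain ⟨t', ht', e⟩ := hR _ (hpow i) (a * a) (ha ▸ la_sq X S) t ht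
      exact ⟨t', ht', i, Or.inl (by rw [← e]; group)⟩
  have Pb : ∀ n, P n → P (n * b) := by
    rintro n ⟨t, ht, i, rfl | rfl⟩
    · have h8 : ((a * b) ^ 8)⁻¹ ∈ HT X S := inv_mem (ha ▸ hb ▸ pow_eight X S)
      obtain ⟨t', ht', e⟩ := hR _ (mul_mem (hpow (i + 7)) hna) (b * b) (hb ▸ lb_sq X S) _ (mul_mem ht h8)
      refine ⟨t', ht', i + 7, Or.inr ?_⟩
      rw [mul_assoc t', ← e]
      calc t * (a * b) ^ i * b = t * (((a * b) ^ 8)⁻¹ * (a * b) ^ (i + 8)) * b := by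
            rw [← pow_add_inv (a * b) i]
        _ = t * ((a * b) ^ 8)⁻¹ * ((a * b) ^ (i + 7) * a) * (b * b) := by
            rw [show i + 8 = (i + 7) + 1 from rfl, pow_succ (a * b) (i + 7)]; group
    · exact ⟨t, ht, i + 1, Or.inl (by rw [pow_succ]; group)⟩
  suffices h : ∀ n ∈ Subgroup.closure ((HT X S : Set E) ∪ {a, b}), P n by
    refine h n ?_
    rw [N0, ← ha, ← hb] at hn
    rwa [Subgroup.closure_union, Subgroup.closure_eq]
  intro n hn
  induction hn using Subgroup.closure_induction_right with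
  | one => exact ⟨1, one_mem _, 0, Or.inl (by rw [pow_zero, mul_one])⟩
  | mul_right x hx y hy ih =>
    rcases hy with hy | rfl | rfl
    · exact PT x ih y hy
    · exact Pa x ih
    · exact Pb x ih
  | mul_inv_cancel x hx y hy ih =>
    rcases hy with hy | rfl | rfl
    · exact PT x ih _ (inv_mem hy)
    · rw [show x * y⁻¹ = x * (y * y)⁻¹ * y by group]
      exact Pa _ (PT x ih _ (inv_mem (ha ▸ la_sq X S)))
    · rw [show x * y⁻¹ = x * (y * y)⁻¹ * y by group]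
      exact Pb _ (PT x ih _ (inv_mem (hb ▸ lb_sq X S)))
where
  pow_add_inv (x : E) (i : ℕ) : (x ^ 8)⁻¹ * x ^ (i + 8) = x ^ i := by
    rw [add_comm, pow_add, inv_mul_cancel_left]

end CfsgLib.Lie.OctCover
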